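import Mathlib.RingTheory.Polynomial.Resultant.Basic
import Mathlib.Algebra.BigOperators.Fin
import Mathlib.FieldTheory.Finite.Basic
import Mathlib.SetTheory.Cardinal.Finite
import Mathlib.Data.Fintype.BigOperators
import Mathlib.Tactic.Ring
import Mathlib.Tactic.FieldSimp
import Mathlib.Tactic.LinearCombination

/-! Counting pairs (quadratic form, degree `n` form) with resultant in a given set of units. -/

universe u

namespace Groth.L14.ResHyp

open Polynomial

variable {F : Type u} [Field F]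

noncomputable def pol {k : ℕ} (a : Fin k → F) : F[X] := ∑ i, C (a i) * X ^ (i : ℕ)

theorem coeff_pol {k : ℕ} (a : Fin k → F) (i : ℕ) : (pol a).coeff i = if h : i < k then a ⟨i, h⟩ else 0 := by
  classical
  simp only [pol, finset_sum_coeff, coeff_C_mul_X_pow]
  split_ifs with h
  · rw [Finset.sum_eq_single ⟨i, h⟩ (fun j _ hj => if_neg fun e => hj (Fin.ext e.symm)) (by simp), if_pos rfl]
  · exact Finset.sum_eq_zero fun j _ => if_neg fun e => h (by have := j.isLt; omega)

theorem natDegree_pol {k : ℕ} (a : Fin (k + 1) → F) : (pol a).natDegree ≤ k :=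
  natDegree_le_iff_coeff_eq_zero.2 fun i hi => by rw [coeff_pol, dif_neg (by omega)]

theorem res_two_one (f : Fin 3 → F) (r0 r1 : F) :
    resultant (pol f) (C r1 * X + C r0) 2 1 = f 2 * r0 ^ 2 - f 1 * r0 * r1 + f 0 * r1 ^ 2 := by
  by_cases h : r1 = 0
  · subst h
    rw [show (C (0 : F) * X + C r0 : F[X]) = C r0 by rw [map_zero, zero_mul, zero_add], resultant_C_right, coeff_pol]
    rw [dif_pos (by norm_num)]; ring!
  · rw [show (C r1 * X + C r0 : F[X]) = C r1 * (X + C (r0 / r1)) by
      rw [mul_add, ← C_mul, mul_div_cancel₀ r0 h], resultant_C_mul_right, resultant_X_add_C_right _ _ _ (natDegree_pol f)]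
    rw [pol, Fin.sum_univ_three]
    simp only [eval_add, eval_mul, eval_C, eval_pow, eval_X, Fin.val_zero, Fin.val_one, Fin.val_two]
    field_simp
    ring

theorem res_divmod {m : ℕ} (f : Fin 3 → F) (h : Fin m → F) (r0 r1 : F) :
    resultant (pol f) (pol f * pol h + (C r1 * X + C r0)) 2 (m + 1) =
      f 2 ^ m * (f 2 * r0 ^ 2 - f 1 * r0 * r1 + f 0 * r1 ^ 2) := by
  have hr : (C r1 * X + C r0 : F[X]).natDegree ≤ 1 := by compute_degree
  rcases m with _ | m
  · have h0 : pol h = 0 := Finset.sum_eq_zero fun i _ => i.elim0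
    rw [h0, mul_zero, zero_add, res_two_one, pow_zero, one_mul]
  · rw [add_comm (pol f * pol h), resultant_add_mul_right _ _ _ _ _ (by have := natDegree_pol h; omega) (natDegree_pol f),
      show m + 1 + 1 = 1 + (m + 1) by omega, resultant_add_right_deg _ _ _ _ _ hr, res_two_one, coeff_pol, dif_pos (by norm_num)]
    rfl

theorem res_low {k : ℕ} (f : Fin 3 → F) (g : Fin (k + 1) → F) (h2 : f 2 = 0) (h1 : f 1 ≠ 0) :
    resultant (pol f) (pol g) 2 k =
      (-1) ^ k * g (Fin.last k) * (f 1 ^ k * (pol g).eval (-(f 0 / f 1))) := by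
  have hf : pol f = C (f 1) * (X + C (f 0 / f 1)) := by
    rw [mul_add, ← C_mul, mul_div_cancel₀ (f 0) h1, pol, Fin.sum_univ_three, h2]
    simp [add_comm]
  have hd : (pol f).natDegree ≤ 1 := by
    rw [hf]; exact (natDegree_C_mul_le _ _).trans (natDegree_X_add_C _).le
  rw [resultant_succ_left_deg _ _ _ _ hd, hf, resultant_C_mul_left, resultant_X_add_C_left _ _ _ (natDegree_pol g),
    coeff_pol, dif_pos (Nat.lt_succ_self k)]
  rfl

theorem res_const {k : ℕ} (f : Fin 3 → F) (g : Fin (k + 1) → F) (h2 : f 2 = 0) (h1 : f 1 = 0) :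
    resultant (pol f) (pol g) 2 k = f 0 ^ k * g (Fin.last k) ^ 2 := by
  have hf : pol f = C (f 0) := by simp [pol, Fin.sum_univ_three, h2, h1]
  rw [hf, resultant_C_left, coeff_pol, dif_pos (Nat.lt_succ_self k), mul_comm 2 k, pow_mul', neg_one_sq, one_pow, one_mul, mul_comm]
  rfl

variable [Fintype F]

open scoped Classical in
noncomputable def ind (T : F → Prop) (x : F) : ℕ := if T x then 1 else 0

theorem sum_ind_affine (T : F → Prop) {a b : F} (ha : a ≠ 0) : ∑ x, ind T (a * x + b) = ∑ x, ind T x :=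
  Fintype.sum_equiv ((Equiv.mulLeft₀ a ha).trans (Equiv.addRight b)) _ _ (fun _ => rfl)

theorem sum_ne_zero (c : ℕ) : ∑ x : F, (open Classical in if x = 0 then 0 else c) = (Fintype.card F - 1) * c := by
  classical
  rw [Finset.sum_ite, Finset.sum_const_zero, zero_add, Finset.sum_const, smul_eq_mul, Finset.filter_ne', Finset.card_erase_of_mem (Finset.mem_univ _), Finset.card_univ]

theorem fin3_sum (G : (Fin 3 → F) → ℕ) : ∑ f, G f = ∑ a, ∑ b, ∑ c, G ![a, b, c] := by
  have h : ∀ {j : ℕ} (G : (Fin (j + 1) → F) → ℕ), ∑ f, G f = ∑ a, ∑ t, G (Fin.cons a t) := fun G => by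
    rw [← Fintype.sum_prod_type']
    exact (Fintype.sum_equiv (Fin.consEquiv fun _ => F) _ _ fun p => rfl).symm
  rw [h]
  refine Finset.sum_congr rfl fun a _ => ?_
  rw [h]
  refine Finset.sum_congr rfl fun b _ => ?_
  rw [h]
  refine Finset.sum_congr rfl fun c _ => ?_
  rw [Fintype.sum_unique]
  rfl

theorem count_high {m : ℕ} (T : F → Prop) (f : Fin 3 → F) (h2 : f 2 ≠ 0) :
    ∑ g : Fin (m + 2) → F, ind T (resultant (pol f) (pol g) 2 (m + 1)) =
      Fintype.card F ^ m * ∑ r1, ∑ r0, ind T (f 2 ^ m * (f 2 * r0 ^ 2 - f 1 * r0 * r1 + f 0 * r1 ^ 2)) := by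
  classical
  let P : (Fin m → F) × F × F → F[X] := fun p => pol f * pol p.1 + (C p.2.1 * X + C p.2.2)
  have hdeg : ∀ p, (P p).natDegree ≤ m + 1 := fun p => by
    rcases m with _ | m
    · have h0 : pol p.1 = 0 := Finset.sum_eq_zero fun i _ => i.elim0
      simp only [P, h0, mul_zero, zero_add]
      compute_degree
    · refine natDegree_add_le_of_degree_le (natDegree_mul_le.trans ?_) ((by compute_degree : (C p.2.1 * X + C p.2.2 : F[X]).natDegree ≤ 1).trans (by omega))
      have := natDegree_pol f; have := natDegree_pol p.1; omega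
  let Φ : (Fin m → F) × F × F → (Fin (m + 2) → F) := fun p j => (P p).coeff j
  have hP : ∀ p, pol (Φ p) = P p := fun p => by
    ext j
    rw [coeff_pol]
    split_ifs with h
    · rfl
    · exact (coeff_eq_zero_of_natDegree_lt (by have := hdeg p; omega)).symm
  have hinj : Function.Injective Φ := by
    intro p q h
    have h' : P p = P q := by rw [← hP, h, hP]
    have hfd : (pol f).natDegree = 2 := le_antisymm (natDegree_pol f) (le_natDegree_of_ne_zero (by rw [coeff_pol, dif_pos (by norm_num)]; exact h2))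
    have hh : pol f * (pol p.1 - pol q.1) = C (q.2.1 - p.2.1) * X + C (q.2.2 - p.2.2) := by
      simp only [P] at h'; simp only [map_sub]; linear_combination h'
    have hz : pol p.1 - pol q.1 = 0 := by
      by_contra hne
      have h1 : (pol f * (pol p.1 - pol q.1)).natDegree ≤ 1 := by rw [hh]; compute_degree
      rw [natDegree_mul (fun h0 => by rw [h0, natDegree_zero] at hfd; omega) hne, hfd] at h1
      omega
    rw [hz, mul_zero] at hh
    have e1 := congrArg (coeff · 1) hh
    have e0 := congrArg (coeff · 0) hh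
    simp at e1 e0
    refine Prod.ext (funext fun i => ?_) (Prod.ext (sub_eq_zero.1 e1.symm).symm (sub_eq_zero.1 e0.symm).symm)
    have := congrArg (coeff · (i : ℕ)) (sub_eq_zero.1 hz)
    simpa [coeff_pol, i.isLt] using this
  have hbij : Function.Bijective Φ := (Fintype.bijective_iff_injective_and_card Φ).2 ⟨hinj, by
    simp only [Fintype.card_prod, Fintype.card_fun, Fintype.card_fin]; ring⟩
  rw [← hbij.sum_comp fun g => ind T (resultant (pol f) (pol g) 2 (m + 1))]
  refine (Finset.sum_congr rfl fun p _ => congrArg (ind T) (show _ = f 2 ^ m * (f 2 * p.2.2 ^ 2 - f 1 * p.2.2 * p.2.1 + f 0 * p.2.1 ^ 2) by rw [hP]; exact res_divmod f p.1 p.2.2 p.2.1)).trans ?_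
  rw [Fintype.sum_prod_type]
  simp only [Fintype.sum_prod_type, Finset.sum_const, Finset.card_univ, Fintype.card_fun, Fintype.card_fin, smul_eq_mul]

theorem count_mid {k : ℕ} (hk : 0 < k) (T : F → Prop) (h0 : ¬ T 0) (f : Fin 3 → F) (h2 : f 2 = 0) (h1 : f 1 ≠ 0) :
    ∑ g : Fin (k + 1) → F, ind T (resultant (pol f) (pol g) 2 k) =
      (Fintype.card F - 1) * Fintype.card F ^ (k - 1) * ∑ x, ind T x := by
  classical
  obtain ⟨j, rfl⟩ : ∃ j, k = j + 1 := ⟨k - 1, by omega⟩
  rw [← (Fin.consEquiv fun _ => F).sum_comp, Fintype.sum_prod_type, Finset.sum_comm]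
  have hin : ∀ t : Fin (j + 1) → F, ∑ a, ind T (resultant (pol f) (pol (Fin.cons a t : Fin (j + 1 + 1) → F)) 2 (j + 1)) =
      if t (Fin.last j) = 0 then 0 else ∑ x, ind T x := by
    intro t
    simp only [res_low f _ h2 h1]
    have hlast : ∀ a, (Fin.cons a t : Fin (j + 1 + 1) → F) (Fin.last (j + 1)) = t (Fin.last j) := fun a => by
      rw [← Fin.succ_last, Fin.cons_succ]
    simp only [hlast]
    split_ifs with ht
    · simp [ht, ind, h0]
    · have hev : ∀ a, (pol (Fin.cons a t : Fin (j + 1 + 1) → F)).eval (-(f 0 / f 1)) = a + ∑ i, t i * (-(f 0 / f 1)) ^ ((i : ℕ) + 1) := fun a => by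
        simp [pol, eval_finset_sum, Fin.sum_univ_succ]
      simp only [hev, mul_add, ← mul_assoc]
      exact sum_ind_affine T (mul_ne_zero (mul_ne_zero (pow_ne_zero _ (neg_ne_zero.2 one_ne_zero)) ht) (pow_ne_zero _ h1))
  refine (Finset.sum_congr rfl fun t _ => hin t).trans ?_
  rw [← (Fin.snocEquiv fun _ => F).sum_comp, Fintype.sum_prod_type]
  simp only [Fin.snocEquiv_apply, Fin.snoc_last, Finset.sum_const, Finset.card_univ, Fintype.card_fun, Fintype.card_fin, smul_eq_mul]
  rw [← Finset.mul_sum, sum_ne_zero, Nat.add_sub_cancel]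
  ring

theorem count_low {k : ℕ} (T : F → Prop) (f : Fin 3 → F) (h2 : f 2 = 0) (h1 : f 1 = 0) :
    ∑ g : Fin (k + 1) → F, ind T (resultant (pol f) (pol g) 2 k) =
      Fintype.card F ^ k * ∑ s, ind T (f 0 ^ k * s ^ 2) := by
  classical
  rw [← (Fin.snocEquiv fun _ => F).sum_comp, Fintype.sum_prod_type, Finset.mul_sum]
  simp only [res_const f _ h2 h1, Fin.snocEquiv_apply, Fin.snoc_last, Finset.sum_const, Finset.card_univ, Fintype.card_fun, Fintype.card_fin, smul_eq_mul]

/-- The general count. -/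
theorem count (k : ℕ) (hk : 1 ≤ k) (T : F → Prop) (h0 : ¬ T 0) :
    Nat.card {p : (Fin 3 → F) × (Fin (k + 1) → F) // T (resultant (pol p.1) (pol p.2) 2 k)} =
      Fintype.card F ^ k * (Fintype.card F + 1) *
        ((Fintype.card F - 1) ^ 2 * (∑ x, ind T x) + ∑ c, ∑ s, ind T (c ^ k * s ^ 2)) := by
  classical
  rw [Nat.card_eq_fintype_card, Fintype.card_subtype, Finset.card_filter, Fintype.sum_prod_type]
  change ∑ f, ∑ g, ind T (resultant (pol f) (pol g) 2 k) = _
  rw [fin3_sum]
  obtain ⟨m, rfl⟩ : ∃ m, k = m + 1 := ⟨k - 1, by omega⟩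
  set q := Fintype.card F with hq
  set t := ∑ x, ind T x with htdef
  have hM0 : ∑ s, ind T ((0 : F) ^ (m + 1) * s ^ 2) = 0 := Finset.sum_eq_zero fun s _ => by simp [ind, h0]
  have hhigh : ∀ a b c : F, c ≠ 0 → ∑ g : Fin (m + 1 + 1) → F, ind T (resultant (pol ![a, b, c]) (pol g) 2 (m + 1)) =
      q ^ m * ∑ r1, ∑ r0, ind T (c ^ m * (c * r0 ^ 2 - b * r0 * r1 + a * r1 ^ 2)) := fun a b c hc => count_high T _ hc
  have hA : ∀ b c : F, c ≠ 0 → ∑ a, ∑ g : Fin (m + 1 + 1) → F, ind T (resultant (pol ![a, b, c]) (pol g) 2 (m + 1)) =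
      q ^ m * ((q - 1) * (q * t) + q * ∑ s, ind T (c ^ (m + 1) * s ^ 2)) := by
    intro b c hc
    rw [Finset.sum_congr rfl fun a _ => hhigh a b c hc, ← Finset.mul_sum, Finset.sum_comm]
    congr 1
    have hr : ∀ r1, ∑ a, ∑ r0, ind T (c ^ m * (c * r0 ^ 2 - b * r0 * r1 + a * r1 ^ 2)) =
        (if r1 = 0 then 0 else q * t) + (if r1 = 0 then q * ∑ s, ind T (c ^ (m + 1) * s ^ 2) else 0) := by
      intro r1
      rw [Finset.sum_comm]
      split_ifs with h
      · subst h
        simp only [zero_add, mul_zero, sub_zero, ne_eq, OfNat.ofNat_ne_zero, not_false_eq_true, zero_pow, add_zero,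
          Finset.sum_const, Finset.card_univ, smul_eq_mul, ← Finset.mul_sum, ← hq, pow_succ, mul_assoc]
      · rw [add_zero]
        have : ∀ r0, ∑ a, ind T (c ^ m * (c * r0 ^ 2 - b * r0 * r1 + a * r1 ^ 2)) = t := fun r0 => by
          rw [Finset.sum_congr rfl fun a _ => congrArg (ind T) (show _ = c ^ m * r1 ^ 2 * a + c ^ m * (c * r0 ^ 2 - b * r0 * r1) by ring)]
          exact sum_ind_affine T (mul_ne_zero (pow_ne_zero _ hc) (pow_ne_zero _ h))
        rw [Finset.sum_congr rfl fun r0 _ => this r0, Finset.sum_const, Finset.card_univ, smul_eq_mul]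
    rw [Finset.sum_congr rfl fun r1 _ => hr r1, Finset.sum_add_distrib, sum_ne_zero, Finset.sum_ite_eq' Finset.univ (0 : F), if_pos (Finset.mem_univ _)]
  have hB : ∀ b : F, ∑ a, ∑ g : Fin (m + 1 + 1) → F, ind T (resultant (pol ![a, b, 0]) (pol g) 2 (m + 1)) =
      (if b = 0 then 0 else q * ((q - 1) * q ^ m * t)) + (if b = 0 then q ^ (m + 1) * ∑ a, ∑ s, ind T (a ^ (m + 1) * s ^ 2) else 0) := by
    intro b
    split_ifs with h
    · rw [zero_add, Finset.mul_sum]
      exact Finset.sum_congr rfl fun a _ => count_low T _ rfl h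
    · rw [add_zero, Finset.sum_congr rfl fun a _ => count_mid (Nat.succ_pos m) T h0 ![a, b, 0] rfl h, Finset.sum_const, Finset.card_univ, smul_eq_mul]
      rfl
  rw [Finset.sum_comm]
  refine Eq.trans (Finset.sum_congr rfl fun b _ => Finset.sum_comm) ?_
  have hC : ∀ b c : F, ∑ a, ∑ g : Fin (m + 1 + 1) → F, ind T (resultant (pol ![a, b, c]) (pol g) 2 (m + 1)) =
      (if c = 0 then (if b = 0 then 0 else q * ((q - 1) * q ^ m * t)) + (if b = 0 then q ^ (m + 1) * ∑ a, ∑ s, ind T (a ^ (m + 1) * s ^ 2) else 0) else 0) +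
      ((if c = 0 then 0 else q ^ m * ((q - 1) * (q * t))) + q ^ (m + 1) * ∑ s, ind T (c ^ (m + 1) * s ^ 2)) := by
    intro b c
    split_ifs with h
    all_goals first
      | (subst h; rw [hB, hM0]; simp only [mul_zero, add_zero]; simp_all)
      | (rw [hA b c h]; ring)
  rw [Finset.sum_congr rfl fun b _ => Finset.sum_congr rfl fun c _ => hC b c]
  simp only [Finset.sum_add_distrib, Finset.sum_ite_eq', Finset.mem_univ, if_true, sum_ne_zero, Finset.sum_const, Finset.card_univ, smul_eq_mul, ← Finset.mul_sum, ← hq]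
  ring

end Groth.L14.ResHyp
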